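import Mathlib

/-! Serre's splitting proposition on the maximal spectrum. -/

set_option autoImplicit false

namespace Groth.Agent.SerreSplit

open TopologicalSpace

universe u

variable {R : Type u} [CommRing R] (M : Type u) [AddCommGroup M] [Module R M]

local notation "Ω" => MaximalSpectrum R

/-- The elements of `M/xM` killed by all linear forms. -/
abbrev B (x : Ω) : Submodule (R ⧸ x.asIdeal) (M ⧸ (x.asIdeal • ⊤ : Submodule R M)) :=
  Submodule.span (R ⧸ x.asIdeal)
    ((x.asIdeal • ⊤ : Submodule R M).mkQ '' {m : M | ∀ φ : M →ₗ[R] R, φ m ∈ x.asIdeal})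

/-- Serre's `V(x)`. -/
abbrev V (x : Ω) : Type u := (M ⧸ (x.asIdeal • ⊤ : Submodule R M)) ⧸ B M x

variable {M}

/-- The image of an element in `V(x)`. -/
def img (x : Ω) (m : M) : V M x := (B M x).mkQ ((x.asIdeal • ⊤ : Submodule R M).mkQ m)

theorem img_add (x : Ω) (m n : M) : img x (m + n) = img x m + img x n := by
  simp only [img, map_add]

theorem img_smul (x : Ω) (a : R) (m : M) :
    img x (a • m) = (Ideal.Quotient.mk x.asIdeal a) • img x m := by
  rw [img, img, ← map_smul (B M x).mkQ, map_smul]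
  rfl

theorem img_zero (x : Ω) : img x (0 : M) = 0 := by simp only [img, map_zero]

theorem img_sum {ι : Type*} (x : Ω) (s : Finset ι) (f : ι → M) :
    img x (∑ i ∈ s, f i) = ∑ i ∈ s, img x (f i) := by
  simp only [img, map_sum]

theorem img_surjective (x : Ω) : Function.Surjective (img (M := M) x) := fun v => by
  obtain ⟨w, rfl⟩ := (B M x).mkQ_surjective v
  obtain ⟨m, rfl⟩ := (x.asIdeal • ⊤ : Submodule R M).mkQ_surjective w
  exact ⟨m, rfl⟩

theorem img_eq_zero_iff (x : Ω) (m : M) : img x m = 0 ↔ ∀ φ : M →ₗ[R] R, φ m ∈ x.asIdeal := by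
  let N : Submodule R M :=
    { carrier := {m | ∀ φ : M →ₗ[R] R, φ m ∈ x.asIdeal}
      add_mem' := fun ha hb φ => by rw [map_add]; exact add_mem (ha φ) (hb φ)
      zero_mem' := fun φ => by simp
      smul_mem' := fun a m hm φ => by rw [map_smul]; exact Ideal.mul_mem_left _ a (hm φ) }
  have hN : (x.asIdeal • ⊤ : Submodule R M) ≤ N := Submodule.smul_le.2 fun a ha m _ φ => by
    rw [map_smul]; exact Ideal.mul_mem_right _ _ ha
  rw [img, Submodule.mkQ_apply, Submodule.Quotient.mk_eq_zero]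
  constructor
  · intro h
    have : ∀ w ∈ B M x, ∃ n ∈ N, (x.asIdeal • ⊤ : Submodule R M).mkQ n = w := fun w hw => by
      refine Submodule.span_induction ?_ ?_ ?_ ?_ hw
      · rintro _ ⟨n, hn, rfl⟩; exact ⟨n, hn, rfl⟩
      · exact ⟨0, N.zero_mem, map_zero _⟩
      · rintro _ _ _ _ ⟨a, ha, rfl⟩ ⟨b, hb, rfl⟩
        exact ⟨a + b, N.add_mem ha hb, map_add _ _ _⟩
      · rintro c _ _ ⟨n, hn, rfl⟩
        obtain ⟨a, rfl⟩ := Ideal.Quotient.mk_surjective c
        exact ⟨a • n, N.smul_mem a hn, map_smul _ _ _⟩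
    obtain ⟨n, hn, he⟩ := this _ h
    have hd : m - n ∈ N := hN ((Submodule.Quotient.eq _).1 he.symm)
    have := N.add_mem hd hn
    rw [sub_add_cancel] at this
    exact this
  · exact fun h => Submodule.subset_span ⟨m, h, rfl⟩

/-- Independence in `V(x)`. -/
def Indep {h : ℕ} (x : Ω) (s : Fin h → M) : Prop :=
  LinearIndependent (R ⧸ x.asIdeal) (fun i => img x (s i))

theorem snoc_img {h : ℕ} (x : Ω) (s : Fin h → M) (t : M) :
    (fun i => img x ((Fin.snoc s t : Fin (h + 1) → M) i)) = (Fin.snoc (fun i => img x (s i)) (img x t) : Fin (h + 1) → V M x) :=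
  Fin.comp_snoc (img x) s t

theorem indep_snoc_iff {h : ℕ} (x : Ω) (s : Fin h → M) (t : M) :
    Indep x (Fin.snoc s t) ↔
      Indep x s ∧ img x t ∉ Submodule.span (R ⧸ x.asIdeal) (Set.range fun i => img x (s i)) := by
  letI := Ideal.Quotient.field x.asIdeal
  rw [Indep, snoc_img]
  exact linearIndependent_finSnoc

theorem indep_of_det {h : ℕ} {x : Ω} {s : Fin h → M} {φ : Fin h → M →ₗ[R] R}
    (hd : (Matrix.of fun a b => φ a (s b)).det ∉ x.asIdeal) : Indep x s := by
  letI := Ideal.Quotient.field x.asIdeal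
  rw [Indep, Fintype.linearIndependent_iff]
  intro c hc
  choose a ha using fun i => Ideal.Quotient.mk_surjective (c i)
  have h0 : img x (∑ i, a i • s i) = 0 := by
    rw [img_sum, ← hc]
    exact Finset.sum_congr rfl fun i _ => by rw [img_smul, ha]
  let A : Matrix (Fin h) (Fin h) (R ⧸ x.asIdeal) :=
    (Matrix.of fun a b => φ a (s b)).map (Ideal.Quotient.mk x.asIdeal)
  have hA : A.det ≠ 0 := by
    rw [show A.det = Ideal.Quotient.mk x.asIdeal (Matrix.of fun a b => φ a (s b)).det from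
      (RingHom.map_det _ _).symm]
    exact fun h => hd (Ideal.Quotient.eq_zero_iff_mem.1 h)
  have hAc : A.mulVec c = 0 := funext fun j => by
    have := Ideal.Quotient.eq_zero_iff_mem.2 ((img_eq_zero_iff x _).1 h0 (φ j))
    simp only [map_sum, map_smul, smul_eq_mul, map_mul, ha] at this
    simpa [A, Matrix.mulVec, dotProduct, mul_comm] using this
  exact fun i => congrFun (Matrix.eq_zero_of_mulVec_eq_zero hA hAc) i

theorem exists_det {h : ℕ} {x : Ω} {s : Fin h → M} (hs : Indep x s) :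
    ∃ φ : Fin h → M →ₗ[R] R, (Matrix.of fun a b => φ a (s b)).det ∉ x.asIdeal := by
  letI := Ideal.Quotient.field x.asIdeal
  let W : Submodule (R ⧸ x.asIdeal) (Fin h → R ⧸ x.asIdeal) :=
    { carrier := {w | ∃ φ : M →ₗ[R] R, ∀ i, Ideal.Quotient.mk x.asIdeal (φ (s i)) = w i}
      add_mem' := by
        rintro _ _ ⟨φ, hφ⟩ ⟨ψ, hψ⟩
        exact ⟨φ + ψ, fun i => by simp [hφ i, hψ i]⟩
      zero_mem' := ⟨0, fun i => by simp⟩
      smul_mem' := by
        rintro c _ ⟨φ, hφ⟩
        obtain ⟨a, rfl⟩ := Ideal.Quotient.mk_surjective c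
        exact ⟨a • φ, fun i => by simp [hφ i]⟩ }
  have hW : W = ⊤ := by
    by_contra hne
    obtain ⟨f, hf, hfW⟩ := Submodule.exists_dual_map_eq_bot_of_lt_top (lt_top_iff_ne_top.2 hne) inferInstance
    refine hf (LinearMap.pi_ext' fun i => LinearMap.ext_ring ?_)
    choose a ha using fun i => Ideal.Quotient.mk_surjective (f (Pi.single i 1))
    have h0 : img x (∑ i, a i • s i) = 0 := (img_eq_zero_iff x _).2 fun φ => by
      rw [← Ideal.Quotient.eq_zero_iff_mem]
      have hw : f (fun i => Ideal.Quotient.mk x.asIdeal (φ (s i))) = 0 := by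
        have : f (fun i => Ideal.Quotient.mk x.asIdeal (φ (s i))) ∈ W.map f :=
          ⟨_, ⟨φ, fun i => rfl⟩, rfl⟩
        rwa [hfW, Submodule.mem_bot] at this
      rw [← hw, pi_eq_sum_univ' (fun i => Ideal.Quotient.mk x.asIdeal (φ (s i)))]
      simp [map_sum, map_smul, ha, mul_comm]
    rw [img_sum] at h0
    simp only [img_smul] at h0
    simpa [ha] using Fintype.linearIndependent_iff.1 hs _ h0 i
  choose φ hφ using fun a : Fin h => (hW ▸ Submodule.mem_top :
    (Pi.single a 1 : Fin h → R ⧸ x.asIdeal) ∈ W)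
  refine ⟨φ, fun hmem => ?_⟩
  have h1 : ((Matrix.of fun a b => φ a (s b)).map (Ideal.Quotient.mk x.asIdeal)) = 1 := by
    ext a b
    rw [Matrix.map_apply, Matrix.of_apply, hφ, Matrix.one_apply, Pi.single_apply]
    simp only [eq_comm]
  have := Ideal.Quotient.eq_zero_iff_mem.2 hmem
  rw [RingHom.map_det, RingHom.mapMatrix_apply, h1, Matrix.det_one] at this
  exact one_ne_zero this

theorem isOpen_indep {h : ℕ} (s : Fin h → M) : IsOpen {x : Ω | Indep x s} := by
  refine isOpen_iff_forall_mem_open.2 fun x hx => ?_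
  obtain ⟨φ, hφ⟩ := exists_det hx
  exact ⟨MaximalSpectrum.toPrimeSpectrum ⁻¹'
      (PrimeSpectrum.basicOpen (Matrix.of fun a b => φ a (s b)).det : Set (PrimeSpectrum R)),
    fun y hy => indep_of_det hy,
    (PrimeSpectrum.basicOpen _).isOpen.preimage MaximalSpectrum.toPrimeSpectrum_continuous, hφ⟩

theorem exists_ideal_of_isClosed {S : Set Ω} (hS : IsClosed S) :
    ∃ I : Ideal R, ∀ x : Ω, x ∈ S ↔ I ≤ x.asIdeal := by
  obtain ⟨T, hT, rfl⟩ := isClosed_induced_iff.1 hS
  obtain ⟨I, rfl⟩ := (PrimeSpectrum.isClosed_iff_zeroLocus_ideal T).1 hT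
  exact ⟨I, fun x => Iff.rfl⟩

theorem exists_interp (P : Finset Ω) (I : Ideal R) (hI : ∀ x ∈ P, ¬ I ≤ x.asIdeal) (r : Ω → R) :
    ∃ a : R, a ∈ I ∧ ∀ x ∈ P, a - r x ∈ x.asIdeal := by
  let J : Option P → Ideal R := fun o => o.elim I fun x => x.1.asIdeal
  have hJ : Pairwise (fun i j => IsCoprime (J i) (J j)) := by
    rintro (_ | i) (_ | j) hij
    · exact absurd rfl hij
    · exact Ideal.isCoprime_iff_sup_eq.2
        (j.1.isMaximal.out.2 _ (lt_of_le_of_ne le_sup_right fun h => hI _ j.2 (h ▸ le_sup_left)))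
    · exact Ideal.isCoprime_iff_sup_eq.2
        (i.1.isMaximal.out.2 _ (lt_of_le_of_ne le_sup_left fun h => hI _ i.2 (h ▸ le_sup_right)))
    · exact Ideal.isCoprime_iff_sup_eq.2 (i.1.isMaximal.coprime_of_ne j.1.isMaximal
        fun h => hij (congrArg some (Subtype.ext (MaximalSpectrum.ext h))))
  obtain ⟨a, ha⟩ := Ideal.exists_forall_sub_mem_ideal hJ (fun o => o.elim 0 fun x => r x.1)
  exact ⟨a, by simpa [J] using ha none, fun x hx => ha (some ⟨x, hx⟩)⟩

theorem exists_comps [NoetherianSpace Ω] {S : Set Ω} (hS : IsClosed S) :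
    ∃ T : Finset (IrreducibleCloseds Ω), S = ⋃ C ∈ T, (C : Set Ω) := by
  classical
  obtain ⟨T, hTf, hTc, hTi, rfl⟩ := NoetherianSpace.exists_finite_set_isClosed_irreducible hS
  have := hTf.fintype
  refine ⟨Finset.univ.image fun t : T => ⟨t.1, hTi _ t.2, hTc _ t.2⟩, ?_⟩
  ext x
  simp only [Set.mem_sUnion, Set.mem_iUnion, Finset.mem_image, Finset.mem_univ, true_and]
  constructor
  · rintro ⟨t, ht, hx⟩
    exact ⟨_, ⟨⟨t, ht⟩, rfl⟩, hx⟩
  · rintro ⟨_, ⟨t, rfl⟩, hx⟩
    exact ⟨t.1, t.2, hx⟩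

theorem exists_le_of_subset {Z : IrreducibleCloseds Ω} {T : Finset (IrreducibleCloseds Ω)}
    (h : (Z : Set Ω) ⊆ ⋃ C ∈ T, (C : Set Ω)) : ∃ C : IrreducibleCloseds Ω, C ∈ T ∧ Z ≤ C := by
  classical
  obtain ⟨z, hz, hZ⟩ := isIrreducible_iff_sUnion_isClosed.1 Z.isIrreducible
    (T.image fun C : IrreducibleCloseds Ω => (C : Set Ω)) (by simp +contextual [IrreducibleCloseds.isClosed])
    (by simpa using h)
  obtain ⟨C, hC, rfl⟩ := Finset.mem_image.1 hz
  exact ⟨C, hC, hZ⟩

variable (M) in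
/-- The proposition, for a given number `k`. -/
def Stmt (k : ℕ) : Prop :=
  ∀ (h : ℕ) (s : Fin h → M) (F : Set Ω), IsClosed F →
    (∀ x : Ω, h + k ≤ Module.finrank (R ⧸ x.asIdeal) (V M x)) →
    (∀ x : Ω, ¬ Indep x s → x ∈ F) → ∀ (P : Finset Ω), ↑P ⊆ F → ∀ m : Ω → M,
      ∃ (t : M) (F' : Set Ω), IsClosed F' ∧ (∀ x ∈ P, img x t = img x (m x)) ∧
        (∀ x, ¬ Indep x (Fin.snoc s t) → x ∈ F ∪ F') ∧
        ∀ Z : IrreducibleCloseds Ω, (Z : Set Ω) ⊆ F' → (k : ℕ∞) ≤ Order.coheight Z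

theorem stmt_zero : Stmt M (R := R) 0 := by
  classical
  intro h s F _ _ _ P _ m
  choose a ha using fun p : P => exists_interp P ⊤
    (fun x _ h => x.isMaximal.ne_top (top_le_iff.1 h)) (fun x => if x = p.1 then 1 else 0)
  refine ⟨∑ p : P, a p • m p.1, Set.univ, isClosed_univ, fun x hx => ?_,
    fun x _ => Or.inr trivial, fun Z _ => bot_le⟩
  rw [img_sum]
  simp only [img_smul]
  have hmk : ∀ p : P, Ideal.Quotient.mk x.asIdeal (a p) = if (⟨x, hx⟩ : P) = p then 1 else 0 := fun p => by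
    rw [(Ideal.Quotient.mk_eq_mk_iff_sub_mem _ _).2 ((ha p).2 x hx)]
    simp only [Subtype.ext_iff]
    split_ifs <;> simp
  simp [hmk, ite_smul]

theorem stmt_succ [NoetherianSpace Ω] {k : ℕ} (ih : Stmt M (R := R) k) : Stmt M (R := R) (k + 1) := by
  classical
  intro h s F hF hdim hsF P hP m
  obtain ⟨t', F₁, hF₁, ht'P, ht', hF₁h⟩ := ih h s F hF (fun x => le_trans (by omega) (hdim x)) hsF P hP m
  obtain ⟨S, hS⟩ := exists_comps hF₁
  let S' : Finset (IrreducibleCloseds Ω) := S.filter fun C : IrreducibleCloseds Ω => ¬ (C : Set Ω) ⊆ F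
  have hext : ∀ x : Ω, x ∉ F → ∃ n : M, Indep x (Fin.snoc s n) := fun x hx => by
    letI := Ideal.Quotient.field x.asIdeal
    obtain ⟨v, hv⟩ := exists_linearIndependent_snoc_of_lt_finrank
      (by_contra fun hn => hx (hsF x hn) : Indep x s) (by have := hdim x; omega)
    obtain ⟨n, rfl⟩ := img_surjective x v
    exact ⟨n, by rw [Indep, snoc_img]; exact hv⟩
  choose! w hw using hext
  choose y hy hyF using fun C : S' => Set.not_subset.1 (Finset.mem_filter.1 C.2).2
  let P₂ : Finset Ω := P ∪ (Finset.univ : Finset S').image y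
  have hyF₁ : ∀ C : S', y C ∈ F₁ := fun C => by
    rw [hS]
    exact Set.mem_iUnion₂.2 ⟨C.1, (Finset.mem_filter.1 C.2).1, hy C⟩
  have hP₂ : (P₂ : Set Ω) ⊆ F ∪ F₁ := fun x hx => by
    simp only [P₂, Finset.coe_union, Set.mem_union, Finset.mem_coe, Finset.mem_image,
      Finset.mem_univ, true_and] at hx
    rcases hx with hx | ⟨C, rfl⟩
    · exact Or.inl (hP hx)
    · exact Or.inr (hyF₁ C)
  obtain ⟨t'', F₃, hF₃, ht''P, ht'', hF₃h⟩ := ih (h + 1) (Fin.snoc s t') (F ∪ F₁) (hF.union hF₁)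
    (fun x => le_trans (by omega) (hdim x)) ht' P₂ hP₂ (fun x => if x ∈ F then 0 else w x)
  obtain ⟨T, hT⟩ := exists_comps hF₃
  let T' : Finset (IrreducibleCloseds Ω) := T.filter fun D : IrreducibleCloseds Ω => ¬ (D : Set Ω) ⊆ F₁
  have hG₃ : IsClosed (⋃ D ∈ T', (D : Set Ω)) :=
    T'.finite_toSet.isClosed_biUnion fun D _ => D.isClosed
  obtain ⟨I, hI⟩ := exists_ideal_of_isClosed hG₃
  -- a point of each component of codimension `k` where `t''` can be used
  have hz : ∀ C : S', Order.coheight C.1 < (k + 1 : ℕ) →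
      ∃ z, z ∈ (C.1 : Set Ω) ∧ z ∉ F ∧ Indep z (Fin.snoc s t'') ∧ z ∉ ⋃ D ∈ T', (D : Set Ω) := by
    intro C hC
    obtain ⟨hCS, hCF⟩ := Finset.mem_filter.1 C.2
    have h1 : ((C.1 : Set Ω) ∩ ({x | Indep x (Fin.snoc s t'')} ∩ Fᶜ)).Nonempty := by
      refine ⟨y C, hy C, ?_, hyF C⟩
      have := ht''P (y C) (Finset.mem_union_right _ (Finset.mem_image.2 ⟨C, Finset.mem_univ _, rfl⟩))
      rw [if_neg (hyF C)] at this
      show Indep _ _
      rw [indep_snoc_iff, this, ← indep_snoc_iff]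
      exact hw _ (hyF C)
    have h2 : ((C.1 : Set Ω) ∩ (⋃ D ∈ T', (D : Set Ω))ᶜ).Nonempty := by
      rw [Set.inter_compl_nonempty_iff]
      intro hsub
      obtain ⟨D, hD, hCD⟩ := exists_le_of_subset hsub
      obtain ⟨hDT, hDF⟩ := Finset.mem_filter.1 hD
      have hlt : C.1 < D := lt_of_le_of_ne hCD fun he => hDF (he ▸ fun x hx => by
        rw [hS]; exact Set.mem_iUnion₂.2 ⟨C.1, hCS, hx⟩)
      refine not_le.2 hC ?_
      refine le_trans ?_ (Order.coheight_add_one_le hlt)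
      push_cast
      exact add_le_add_left (hF₃h D fun x hx => by
        rw [hT]; exact Set.mem_iUnion₂.2 ⟨D, hDT, hx⟩) 1
    obtain ⟨z, hzC, ⟨hz1, hz2⟩, hz3⟩ := C.1.isIrreducible.2 _ _
      ((isOpen_indep (Fin.snoc s t'')).inter hF.isOpen_compl) hG₃.isOpen_compl h1 h2
    exact ⟨z, hzC, hz2, hz1, hz3⟩
  choose z hzC hzF hzI hzG using hz
  let Q : Finset Ω := (Finset.univ : Finset {C : S' // Order.coheight C.1 < (k + 1 : ℕ)}).image
    fun C => z C.1 C.2
  obtain ⟨a, haI, haQ⟩ := exists_interp Q I (fun x hx hle => by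
    obtain ⟨C, -, rfl⟩ := Finset.mem_image.1 hx
    exact hzG C.1 C.2 ((hI _).2 hle)) (fun x => if Indep x (Fin.snoc s t') then 0 else 1)
  let t := t' + a • t''
  have himg : ∀ x, img x t = img x t' + Ideal.Quotient.mk x.asIdeal a • img x t'' := fun x => by
    rw [img_add, img_smul]
  refine ⟨t, {x | ¬ Indep x (Fin.snoc s t)} ∩ ⋃ C ∈ S', (C : Set Ω),
    (isOpen_indep _).isClosed_compl.inter (S'.finite_toSet.isClosed_biUnion fun C _ => C.isClosed),
    fun x hx => ?_, fun x hx => ?_, fun Z hZ => ?_⟩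
  · have := ht''P x (Finset.mem_union_left _ hx)
    rw [if_pos (hP hx), img_zero] at this
    rw [himg, this, smul_zero, add_zero, ht'P x hx]
  · by_contra hn
    simp only [Set.mem_union, Set.mem_inter_iff, Set.mem_setOf_eq, not_or, not_and] at hn
    obtain ⟨hxF, hxS⟩ := hn
    have hxS' := hxS hx
    have hxF₁ : x ∉ F₁ := fun hx1 => by
      rw [hS] at hx1
      obtain ⟨C, hC, hxC⟩ := Set.mem_iUnion₂.1 hx1
      exact hxS' (Set.mem_iUnion₂.2 ⟨C, Finset.mem_filter.2 ⟨hC, fun hsub => hxF (hsub hxC)⟩, hxC⟩)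
    have hst' : Indep x (Fin.snoc s t') := by_contra fun hb => by
      rcases ht' x hb with h1 | h1
      · exact hxF h1
      · exact hxF₁ h1
    letI := Ideal.Quotient.field x.asIdeal
    obtain ⟨hs, ht1⟩ := (indep_snoc_iff x s t').1 hst'
    refine hx ((indep_snoc_iff x s t).2 ⟨hs, fun hmem => ?_⟩)
    rw [himg] at hmem
    by_cases ha : Ideal.Quotient.mk x.asIdeal a = 0
    · rw [ha, zero_smul, add_zero] at hmem
      exact ht1 hmem
    · have hxI3 : x ∉ F₃ := fun h3 => by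
        rw [hT] at h3
        obtain ⟨D, hD, hxD⟩ := Set.mem_iUnion₂.1 h3
        refine ha (Ideal.Quotient.eq_zero_iff_mem.2 ((hI x).1 ?_ haI))
        exact Set.mem_iUnion₂.2 ⟨D, Finset.mem_filter.2 ⟨hD, fun hsub => hxF₁ (hsub hxD)⟩, hxD⟩
      have h3 : Indep x (Fin.snoc (Fin.snoc s t') t'') := by_contra fun hb => by
        rcases ht'' x hb with (h1 | h1) | h1
        · exact hxF h1
        · exact hxF₁ h1
        · exact hxI3 h1
      refine ((indep_snoc_iff x _ _).1 h3).2 ?_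
      have hmono : Submodule.span (R ⧸ x.asIdeal) (Set.range fun i => img x (s i)) ≤
          Submodule.span (R ⧸ x.asIdeal) (Set.range fun i => img x ((Fin.snoc s t' : Fin (h + 1) → M) i)) :=
        Submodule.span_mono (by rintro _ ⟨i, rfl⟩; exact ⟨i.castSucc, by simp⟩)
      have hmem' : img x t' ∈
          Submodule.span (R ⧸ x.asIdeal) (Set.range fun i => img x ((Fin.snoc s t' : Fin (h + 1) → M) i)) :=
        Submodule.subset_span ⟨Fin.last h, by simp⟩
      refine (Submodule.smul_mem_iff _ ha).1 ?_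
      simpa using sub_mem (hmono hmem) hmem'
  · obtain ⟨C, hC, hZC⟩ := exists_le_of_subset (fun x hx => (hZ hx).2)
    obtain ⟨hCS, -⟩ := Finset.mem_filter.1 hC
    have hCk : (k : ℕ∞) ≤ Order.coheight C := hF₁h C fun x hx => by
      rw [hS]; exact Set.mem_iUnion₂.2 ⟨C, hCS, hx⟩
    by_cases hlt : Order.coheight C < (k + 1 : ℕ)
    · have hne : Z ≠ C := fun he => by
        subst he
        have hzmem := (hZ (hzC ⟨Z, hC⟩ hlt)).1
        apply hzmem
        let x := z ⟨Z, hC⟩ hlt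
        letI := Ideal.Quotient.field x.asIdeal
        have hq := haQ x (Finset.mem_image.2 ⟨⟨⟨Z, hC⟩, hlt⟩, Finset.mem_univ _, rfl⟩)
        rw [← Ideal.Quotient.mk_eq_mk_iff_sub_mem] at hq
        obtain ⟨hs, ht2⟩ := (indep_snoc_iff x s t'').1 (hzI ⟨Z, hC⟩ hlt)
        refine (indep_snoc_iff x s t).2 ⟨hs, ?_⟩
        rw [himg, hq]
        by_cases h1 : Indep x (Fin.snoc s t')
        · rw [if_pos h1, map_zero, zero_smul, add_zero]
          exact ((indep_snoc_iff x s t').1 h1).2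
        · rw [if_neg h1, map_one, one_smul]
          intro hmem
          have h1' : img x t' ∈ Submodule.span (R ⧸ x.asIdeal) (Set.range fun i => img x (s i)) := by
            by_contra hb
            exact h1 ((indep_snoc_iff x s t').2 ⟨hs, hb⟩)
          exact ht2 ((Submodule.add_mem_iff_right _ h1').1 hmem)
      refine le_trans ?_ (Order.coheight_add_one_le (lt_of_le_of_ne hZC hne))
      push_cast
      exact add_le_add_left hCk 1
    · exact le_trans (not_lt.1 hlt) (Order.coheight_anti hZC)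

theorem stmt [NoetherianSpace Ω] : ∀ k, Stmt M (R := R) k
  | 0 => stmt_zero
  | k + 1 => stmt_succ (stmt k)

end Groth.Agent.SerreSplit
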